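import Mathlib

/-!
# Pronormality of odd-index subgroups of `PSL_{2^w}` / `PSU_{2^w}` (S2225, S2226): definitions

Block groups on `ι ⊕ ι`: `bd a b = [[a,0],[0,b]]`, `ad a b = [[0,a],[b,0]]`, the wreath-type group
`Wr P = {bd a b, ad a b : a b ∈ P}`, scalars `sc l`, the subgroup `SLs` of determinant one elements
of `GL`, and the invariant packages `Inv`, `InvP` carried through the induction.
-/

set_option autoImplicit false

namespace Cfsg.Agent.Helper99.Pron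

open Matrix

variable {F : Type*} [Field F] {ι : Type*} [Fintype ι] [DecidableEq ι]

/-- block diagonal element `[[a,0],[0,b]]` of `GL (ι ⊕ ι) F` -/
def bd (a b : GL ι F) : GL (ι ⊕ ι) F :=
  ⟨fromBlocks a.1 0 0 b.1, fromBlocks (a⁻¹).1 0 0 (b⁻¹).1,
    by rw [fromBlocks_multiply]; simp [fromBlocks_one],
    by rw [fromBlocks_multiply]; simp [fromBlocks_one]⟩

/-- block antidiagonal element `[[0,a],[b,0]]` of `GL (ι ⊕ ι) F` -/
def ad (a b : GL ι F) : GL (ι ⊕ ι) F :=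
  ⟨fromBlocks 0 a.1 b.1 0, fromBlocks 0 (b⁻¹).1 (a⁻¹).1 0,
    by rw [fromBlocks_multiply]; simp [fromBlocks_one],
    by rw [fromBlocks_multiply]; simp [fromBlocks_one]⟩

@[simp] theorem bd_val (a b : GL ι F) :
    ((bd a b : GL (ι ⊕ ι) F) : Matrix (ι ⊕ ι) (ι ⊕ ι) F) = fromBlocks a.1 0 0 b.1 := rfl

@[simp] theorem ad_val (a b : GL ι F) :
    ((ad a b : GL (ι ⊕ ι) F) : Matrix (ι ⊕ ι) (ι ⊕ ι) F) = fromBlocks 0 a.1 b.1 0 := rfl

theorem bd_mul_bd (a b a' b' : GL ι F) : bd a b * bd a' b' = bd (a * a') (b * b') := by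
  apply Units.ext
  simp [fromBlocks_multiply]

theorem bd_mul_ad (a b a' b' : GL ι F) : bd a b * ad a' b' = ad (a * a') (b * b') := by
  apply Units.ext
  simp [fromBlocks_multiply]

theorem ad_mul_bd (a b a' b' : GL ι F) : ad a b * bd a' b' = ad (a * b') (b * a') := by
  apply Units.ext
  simp [fromBlocks_multiply]

theorem ad_mul_ad (a b a' b' : GL ι F) : ad a b * ad a' b' = bd (a * b') (b * a') := by
  apply Units.ext
  simp [fromBlocks_multiply]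

theorem bd_one : bd (1 : GL ι F) 1 = 1 := by
  apply Units.ext
  simp [fromBlocks_one]

theorem bd_inv (a b : GL ι F) : (bd a b)⁻¹ = bd a⁻¹ b⁻¹ := by
  rw [inv_eq_iff_mul_eq_one, bd_mul_bd, mul_inv_cancel, mul_inv_cancel, bd_one]

theorem ad_inv (a b : GL ι F) : (ad a b)⁻¹ = ad b⁻¹ a⁻¹ := by
  rw [inv_eq_iff_mul_eq_one, ad_mul_ad, mul_inv_cancel, mul_inv_cancel, bd_one]

theorem bd_ne_ad [Nonempty ι] (a b a' b' : GL ι F) : bd a b ≠ ad a' b' := by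
  intro h
  have h1 := congrArg (fun g : GL (ι ⊕ ι) F => (g : Matrix (ι ⊕ ι) (ι ⊕ ι) F)) h
  simp only [bd_val, ad_val] at h1
  have h2 := (fromBlocks_inj.1 h1).1
  have : IsUnit (a : Matrix ι ι F) := a.isUnit
  rw [h2] at this
  exact not_isUnit_zero this

theorem bd_injective (a b a' b' : GL ι F) (h : bd a b = bd a' b') : a = a' ∧ b = b' := by
  have h1 := congrArg (fun g : GL (ι ⊕ ι) F => (g : Matrix (ι ⊕ ι) (ι ⊕ ι) F)) h
  simp only [bd_val] at h1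
  obtain ⟨h2, -, -, h3⟩ := fromBlocks_inj.1 h1
  exact ⟨Units.ext h2, Units.ext h3⟩

theorem ad_injective (a b a' b' : GL ι F) (h : ad a b = ad a' b') : a = a' ∧ b = b' := by
  have h1 := congrArg (fun g : GL (ι ⊕ ι) F => (g : Matrix (ι ⊕ ι) (ι ⊕ ι) F)) h
  simp only [ad_val] at h1
  obtain ⟨-, h2, h3, -⟩ := fromBlocks_inj.1 h1
  exact ⟨Units.ext h2, Units.ext h3⟩

/-- the wreath-type group `P ≀ C₂` in block form on `ι ⊕ ι` -/
def Wr (P : Subgroup (GL ι F)) : Subgroup (GL (ι ⊕ ι) F) where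
  carrier := {g | ∃ a ∈ P, ∃ b ∈ P, g = bd a b ∨ g = ad a b}
  one_mem' := ⟨1, P.one_mem, 1, P.one_mem, Or.inl bd_one.symm⟩
  mul_mem' := by
    rintro _ _ ⟨a, ha, b, hb, rfl | rfl⟩ ⟨a', ha', b', hb', rfl | rfl⟩
    · exact ⟨a * a', P.mul_mem ha ha', b * b', P.mul_mem hb hb', Or.inl (bd_mul_bd _ _ _ _)⟩
    · exact ⟨a * a', P.mul_mem ha ha', b * b', P.mul_mem hb hb', Or.inr (bd_mul_ad _ _ _ _)⟩
    · exact ⟨a * b', P.mul_mem ha hb', b * a', P.mul_mem hb ha', Or.inr (ad_mul_bd _ _ _ _)⟩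
    · exact ⟨a * b', P.mul_mem ha hb', b * a', P.mul_mem hb ha', Or.inl (ad_mul_ad _ _ _ _)⟩
  inv_mem' := by
    rintro _ ⟨a, ha, b, hb, rfl | rfl⟩
    · exact ⟨a⁻¹, P.inv_mem ha, b⁻¹, P.inv_mem hb, Or.inl (bd_inv _ _)⟩
    · exact ⟨b⁻¹, P.inv_mem hb, a⁻¹, P.inv_mem ha, Or.inr (ad_inv _ _)⟩

theorem mem_Wr {P : Subgroup (GL ι F)} {g : GL (ι ⊕ ι) F} :
    g ∈ Wr P ↔ ∃ a ∈ P, ∃ b ∈ P, g = bd a b ∨ g = ad a b := Iff.rfl

theorem bd_mem_Wr {P : Subgroup (GL ι F)} {a b : GL ι F} (ha : a ∈ P) (hb : b ∈ P) :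
    bd a b ∈ Wr P := ⟨a, ha, b, hb, Or.inl rfl⟩

theorem ad_mem_Wr {P : Subgroup (GL ι F)} {a b : GL ι F} (ha : a ∈ P) (hb : b ∈ P) :
    ad a b ∈ Wr P := ⟨a, ha, b, hb, Or.inr rfl⟩

/-- the scalar `l • 1` as an element of `GL ι F` -/
def sc (l : Fˣ) : GL ι F :=
  ⟨(l : F) • (1 : Matrix ι ι F), ((l⁻¹ : Fˣ) : F) • (1 : Matrix ι ι F),
    by rw [smul_mul_smul_comm, mul_one, Units.mul_inv, one_smul],
    by rw [smul_mul_smul_comm, mul_one, Units.inv_mul, one_smul]⟩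

@[simp] theorem sc_val (l : Fˣ) : ((sc l : GL ι F) : Matrix ι ι F) = (l : F) • 1 := rfl

theorem sc_mul (l m : Fˣ) : (sc (l * m) : GL ι F) = sc l * sc m := by
  apply Units.ext
  rw [Units.val_mul, sc_val, sc_val, sc_val, smul_mul_smul_comm, mul_one, Units.val_mul]

theorem sc_one : (sc (1 : Fˣ) : GL ι F) = 1 := by
  apply Units.ext
  simp

theorem sc_comm (l : Fˣ) (g : GL ι F) : sc l * g = g * sc l := by
  apply Units.ext
  simp

theorem bd_sc (l : Fˣ) : bd (sc l : GL ι F) (sc l) = sc l := by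
  apply Units.ext
  rw [bd_val, sc_val, sc_val, ← fromBlocks_one, fromBlocks_smul, smul_zero]

/-- the determinant one elements of `GL ι F` -/
def SLs (ι : Type*) [Fintype ι] [DecidableEq ι] (F : Type*) [Field F] : Subgroup (GL ι F) :=
  MonoidHom.ker (Matrix.GeneralLinearGroup.det : GL ι F →* Fˣ)

theorem mem_SLs {g : GL ι F} : g ∈ SLs ι F ↔ (g : Matrix ι ι F).det = 1 := by
  unfold SLs
  rw [MonoidHom.mem_ker, Units.ext_iff]
  rfl

/-- the invariant package of the induction -/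
structure Inv (P : Subgroup (GL ι F)) : Prop where
  /-- `P` is a `2`-group -/
  two : ∀ a ∈ P, ∃ k : ℕ, a ^ (2 ^ k) = 1
  /-- the commutant of `P` in the matrix algebra is the scalars -/
  comm : ∀ X : Matrix ι ι F,
    (∀ a ∈ P, (a : Matrix ι ι F) * X = X * (a : Matrix ι ι F)) → ∃ l : F, X = l • 1
  /-- the normaliser of `P` in `GL` is `P` times scalars -/
  norm : ∀ x ∈ Subgroup.normalizer (P : Set (GL ι F)), ∃ l : Fˣ, ∃ p ∈ P, x = sc l * p
  /-- `P` contains a square root of `-1` -/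
  neg : ∃ c ∈ P, (c : Matrix ι ι F) * (c : Matrix ι ι F) = -1

/-- the stronger package needed for the `SL` step -/
structure InvP (P : Subgroup (GL ι F)) : Prop extends Inv P where
  /-- the commutant of `{a ∈ P : det a ∈ (det P)²}` is the scalars -/
  comm6 : ∀ X : Matrix ι ι F,
    (∀ a ∈ P, (∃ e ∈ P, (a : Matrix ι ι F).det = (e : Matrix ι ι F).det ^ 2) →
      (a : Matrix ι ι F) * X = X * (a : Matrix ι ι F)) → ∃ l : F, X = l • 1
  /-- `P` contains a square root of `-1` of determinant one -/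
  neg1 : ∃ c ∈ P, (c : Matrix ι ι F) * (c : Matrix ι ι F) = -1 ∧ (c : Matrix ι ι F).det = 1

/-- the base group `P × P` of `Wr P` -/
def Bs (P : Subgroup (GL ι F)) : Subgroup (GL (ι ⊕ ι) F) where
  carrier := {g | ∃ a ∈ P, ∃ b ∈ P, g = bd a b}
  one_mem' := ⟨1, P.one_mem, 1, P.one_mem, bd_one.symm⟩
  mul_mem' := by
    rintro _ _ ⟨a, ha, b, hb, rfl⟩ ⟨a', ha', b', hb', rfl⟩
    exact ⟨a * a', P.mul_mem ha ha', b * b', P.mul_mem hb hb', bd_mul_bd _ _ _ _⟩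
  inv_mem' := by
    rintro _ ⟨a, ha, b, hb, rfl⟩
    exact ⟨a⁻¹, P.inv_mem ha, b⁻¹, P.inv_mem hb, bd_inv _ _⟩

theorem mem_Bs {P : Subgroup (GL ι F)} {g : GL (ι ⊕ ι) F} :
    g ∈ Bs P ↔ ∃ a ∈ P, ∃ b ∈ P, g = bd a b := Iff.rfl

theorem Bs_le_Wr (P : Subgroup (GL ι F)) : Bs P ≤ Wr P := by
  rintro _ ⟨a, ha, b, hb, rfl⟩
  exact bd_mem_Wr ha hb

/-- `T ≤ W` has index at most two in `W` -/
def Idx2 {G : Type*} [Group G] (W T : Subgroup G) : Prop :=
  T ≤ W ∧ ∀ g ∈ W, ∀ h ∈ W, g ∉ T → h ∉ T → g * h ∈ T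

/-- `{a ∈ P : det a ∈ (det P)²}` -/
def Ksub (P : Subgroup (GL ι F)) : Subgroup (GL ι F) where
  carrier := {a | a ∈ P ∧ ∃ e ∈ P, (a : Matrix ι ι F).det = (e : Matrix ι ι F).det ^ 2}
  one_mem' := ⟨P.one_mem, 1, P.one_mem, by simp⟩
  mul_mem' := by
    rintro a b ⟨ha, e, he, hae⟩ ⟨hb, e', he', hbe⟩
    refine ⟨P.mul_mem ha hb, e * e', P.mul_mem he he', ?_⟩
    rw [Units.val_mul, Units.val_mul, det_mul, det_mul, hae, hbe, mul_pow]
  inv_mem' := by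
    rintro a ⟨ha, e, he, hae⟩
    refine ⟨P.inv_mem ha, e⁻¹, P.inv_mem he, ?_⟩
    have h1 : (a⁻¹ : GL ι F).1.det * (a : Matrix ι ι F).det = 1 := by
      rw [← det_mul, ← Units.val_mul, inv_mul_cancel, Units.val_one, det_one]
    have h2 : (e⁻¹ : GL ι F).1.det * (e : Matrix ι ι F).det = 1 := by
      rw [← det_mul, ← Units.val_mul, inv_mul_cancel, Units.val_one, det_one]
    have h3 : (e : Matrix ι ι F).det ≠ 0 := fun h => by simp [h] at h2
    have h4 : (a : Matrix ι ι F).det ≠ 0 := fun h => by simp [h] at h1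
    have e1 : (a⁻¹ : GL ι F).1.det = ((a : Matrix ι ι F).det)⁻¹ := eq_inv_of_mul_eq_one_left h1
    have e2 : (e⁻¹ : GL ι F).1.det = ((e : Matrix ι ι F).det)⁻¹ := eq_inv_of_mul_eq_one_left h2
    rw [e1, e2, hae, inv_pow]

theorem mem_Ksub {P : Subgroup (GL ι F)} {a : GL ι F} :
    a ∈ Ksub P ↔ a ∈ P ∧ ∃ e ∈ P, (a : Matrix ι ι F).det = (e : Matrix ι ι F).det ^ 2 := Iff.rfl

theorem Ksub_le (P : Subgroup (GL ι F)) : Ksub P ≤ P := fun _ h => h.1

/-- `sc` as a monoid hom -/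
def scHom (ι : Type*) [Fintype ι] [DecidableEq ι] (F : Type*) [Field F] : Fˣ →* GL ι F where
  toFun := sc
  map_one' := sc_one
  map_mul' := sc_mul

@[simp] theorem scHom_apply (l : Fˣ) : scHom ι F l = sc l := rfl

/-- the group of scalars with coefficient in `L ≤ Fˣ` -/
def Sc (ι : Type*) [Fintype ι] [DecidableEq ι] {F : Type*} [Field F] (L : Subgroup Fˣ) :
    Subgroup (GL ι F) := L.map (scHom ι F)

theorem mem_Sc {L : Subgroup Fˣ} {g : GL ι F} : g ∈ Sc ι L ↔ ∃ l ∈ L, sc l = g := by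
  unfold Sc
  rw [Subgroup.mem_map]
  rfl

/-- the unitary condition for the form `Σ u_i v_i^q` -/
def Uq (q : ℕ) (a : Matrix ι ι F) : Prop := aᵀ * a.map (· ^ q) = 1

end Cfsg.Agent.Helper99.Pron
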