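import Mathlib
import Cfsg.Agent.Helper99.Pron.Defs
import Cfsg.Agent.Helper55.PronBM3
import Cfsg.Agent.Helper34.PronDET

/-! # S2225/S2226 block I: backup of (C6U) -/

set_option autoImplicit false

namespace Cfsg.Agent.Helper99.Pron.Back

open Matrix Cfsg.Agent.Helper99.Pron

variable {F : Type*} [Field F] {ι : Type*} [Fintype ι] [DecidableEq ι]

omit [Fintype ι] in
theorem eq_smul_one_of_unique [Unique ι] (M : Matrix ι ι F) : M = (M default default) • 1 := by
  ext i j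
  rw [Subsingleton.elim i default, Subsingleton.elim j default]
  simp

theorem comm6_Wr_of_unique [Unique ι] (h2 : (2 : F) ≠ 0) (P : Subgroup (GL ι F)) (hP : Inv P) :
    ∀ X : Matrix (ι ⊕ ι) (ι ⊕ ι) F,
      (∀ g ∈ Wr P, (∃ e ∈ Wr P, (g : Matrix (ι ⊕ ι) (ι ⊕ ι) F).det =
          (e : Matrix (ι ⊕ ι) (ι ⊕ ι) F).det ^ 2) →
        (g : Matrix (ι ⊕ ι) (ι ⊕ ι) F) * X = X * (g : Matrix (ι ⊕ ι) (ι ⊕ ι) F)) →
      ∃ l : F, X = l • 1 := by
  intro X hX
  obtain ⟨c, hcP, hcc⟩ := hP.neg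
  have hone : ∃ e ∈ Wr P, (1 : F) = (e : Matrix (ι ⊕ ι) (ι ⊕ ι) F).det ^ 2 :=
    ⟨1, (Wr P).one_mem, by simp⟩
  -- the two elements
  have hd1 : ((bd c c⁻¹ : GL (ι ⊕ ι) F) : Matrix (ι ⊕ ι) (ι ⊕ ι) F).det = 1 := by
    rw [Cfsg.Agent.Helper34.Pron.det_bd, ← det_mul, ← Units.val_mul, mul_inv_cancel, Units.val_one,
      det_one]
  have hm : ((c * c : GL ι F) : Matrix ι ι F) = -1 := by rw [Units.val_mul, hcc]
  have hd2 : ((ad 1 (c * c) : GL (ι ⊕ ι) F) : Matrix (ι ⊕ ι) (ι ⊕ ι) F).det = 1 := by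
    rw [ad_val, hm, Units.val_one]
    exact Cfsg.Agent.Helper34.Pron.det_J
  have h1 := hX _ (bd_mem_Wr hcP (P.inv_mem hcP)) (by rw [hd1]; exact hone)
  have h3 := hX _ (ad_mem_Wr P.one_mem (P.mul_mem hcP hcP)) (by rw [hd2]; exact hone)
  -- scalar form of c
  set γ : F := (c : Matrix ι ι F) default default with hγ
  have hc : (c : Matrix ι ι F) = γ • 1 := eq_smul_one_of_unique _
  have hγ2 : γ * γ = -1 := by
    have := hcc
    rw [hc, smul_mul_smul_comm, Matrix.mul_one] at this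
    have e := congrFun (congrFun this default) default
    simpa using e
  have hγ0 : γ ≠ 0 := by
    rintro h
    rw [h] at hγ2
    simp at hγ2
  have hcinv : ((c⁻¹ : GL ι F) : Matrix ι ι F) = (-γ) • 1 := by
    have h : ((c⁻¹ : GL ι F) : Matrix ι ι F) * (c : Matrix ι ι F) = 1 := by
      rw [← Units.val_mul, inv_mul_cancel, Units.val_one]
    have e : ((c⁻¹ : GL ι F) : Matrix ι ι F) =
        (((c⁻¹ : GL ι F) : Matrix ι ι F) default default) • 1 := eq_smul_one_of_unique _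
    rw [e, hc, smul_mul_smul_comm, Matrix.mul_one] at h
    have e2 := congrFun (congrFun h default) default
    simp only [Matrix.smul_apply, Matrix.one_apply_eq, smul_eq_mul, mul_one] at e2
    rw [e]
    congr 1
    have : ((c⁻¹ : GL ι F) : Matrix ι ι F) default default * (γ * γ) = γ := by
      rw [← mul_assoc, e2, one_mul]
    rw [hγ2] at this
    linear_combination (-1 : F) * this
  -- blocks of X
  obtain ⟨X₁₁, X₁₂, X₂₁, X₂₂, rfl⟩ : ∃ A B C D : Matrix ι ι F, X = fromBlocks A B C D :=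
    ⟨_, _, _, _, (fromBlocks_toBlocks X).symm⟩
  rw [bd_val, hc, hcinv, fromBlocks_multiply, fromBlocks_multiply] at h1
  obtain ⟨-, h12, h21, -⟩ := fromBlocks_inj.1 h1
  simp only [Matrix.zero_mul, Matrix.mul_zero, add_zero, zero_add, Matrix.smul_mul,
    Matrix.one_mul, Matrix.mul_smul, Matrix.mul_one] at h12 h21
  have hX12 : X₁₂ = 0 := by
    have : (2 * γ) • X₁₂ = 0 := by
      rw [mul_smul, two_smul]
      nth_rewrite 1 [h12]
      rw [neg_smul, neg_add_cancel]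
    exact (smul_eq_zero.1 this).resolve_left (mul_ne_zero h2 hγ0)
  have hX21 : X₂₁ = 0 := by
    have : (2 * γ) • X₂₁ = 0 := by
      rw [mul_smul, two_smul]
      nth_rewrite 2 [← h21]
      rw [neg_smul, add_neg_cancel]
    exact (smul_eq_zero.1 this).resolve_left (mul_ne_zero h2 hγ0)
  subst hX12 hX21
  have e1 : X₁₁ = (X₁₁ default default) • 1 := eq_smul_one_of_unique _
  have e2 : X₂₂ = (X₂₂ default default) • 1 := eq_smul_one_of_unique _
  rw [e1, e2] at h3 ⊢
  have := Cfsg.Agent.Helper55.Pron.BM3 _ _ 1 (c * c) h3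
  refine ⟨X₁₁ default default, ?_⟩
  rw [← this, ← fromBlocks_one, fromBlocks_smul, smul_zero]

end Cfsg.Agent.Helper99.Pron.Back
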