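import Mathlib
import Cfsg.Agent.Helper99.Pron.Defs
import Cfsg.Agent.Helper10.PronGIDX
import Cfsg.Agent.Helper66.PronIX3

/-! # S2225/S2226 block I: backup of (GN) -/

set_option autoImplicit false

namespace Cfsg.Agent.Helper99.Pron.Back

open Matrix Cfsg.Agent.Helper99.Pron

variable {F : Type*} [Field F] {ι : Type*} [Fintype ι] [DecidableEq ι]

theorem bd_comm_e (a b : GL ι F) :
    (bd a b : GL (ι ⊕ ι) F).1 * fromBlocks (1 : Matrix ι ι F) 0 0 0 =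
      fromBlocks (1 : Matrix ι ι F) 0 0 0 * (bd a b : GL (ι ⊕ ι) F).1 := by
  rw [bd_val, fromBlocks_multiply, fromBlocks_multiply]
  simp

omit [Fintype ι] in
theorem e_ne_smul [Nonempty ι] (l : F) :
    fromBlocks (1 : Matrix ι ι F) 0 0 0 ≠ l • (1 : Matrix (ι ⊕ ι) (ι ⊕ ι) F) := by
  intro h
  rw [← fromBlocks_one, fromBlocks_smul] at h
  obtain ⟨h1, -, -, h4⟩ := fromBlocks_inj.1 h
  obtain ⟨i⟩ := ‹Nonempty ι›
  have e1 := congrFun (congrFun h1 i) i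
  have e4 := congrFun (congrFun h4 i) i
  simp at e1 e4
  rw [← e1] at e4
  exact one_ne_zero e4.symm

theorem GN [Nonempty ι] (P : Subgroup (GL ι F)) (Y : Subgroup (GL (ι ⊕ ι) F)) (hY : Y ≤ Wr P)
    (hK : ∀ T : Subgroup (GL (ι ⊕ ι) F), Idx2 Y T → (∃ a b : GL ι F, ad a b ∈ T) →
      ∀ X : Matrix (ι ⊕ ι) (ι ⊕ ι) F,
        (∀ g ∈ T, (g : Matrix (ι ⊕ ι) (ι ⊕ ι) F) * X = X * (g : Matrix (ι ⊕ ι) (ι ⊕ ι) F)) →
          ∃ l : F, X = l • 1)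
    (x : GL (ι ⊕ ι) F) (hx : x ∈ Subgroup.normalizer (Y : Set (GL (ι ⊕ ι) F))) :
    ∀ g ∈ Y ⊓ Bs P, x * g * x⁻¹ ∈ Bs P := by
  intro g hg
  by_contra hnot
  have hxg : x * g * x⁻¹ ∈ Y := (Subgroup.mem_normalizer_iff.1 hx g).1 hg.1
  obtain ⟨a', ha', b', hb', h | h⟩ := hY hxg
  · exact hnot ⟨a', ha', b', hb', h⟩
  · have hT : Idx2 Y ((Y ⊓ Bs P).map (MulAut.conj x).toMonoidHom) :=
      Cfsg.Agent.Helper66.Pron.Idx2.map_conj (Cfsg.Agent.Helper10.Pron.GIDX P Y hY) hx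
    have hτ : ad a' b' ∈ (Y ⊓ Bs P).map (MulAut.conj x).toMonoidHom := by
      refine ⟨g, hg, ?_⟩
      rw [MulEquiv.coe_toMonoidHom, MulAut.conj_apply, h]
    have hE : ∀ t ∈ (Y ⊓ Bs P).map (MulAut.conj x).toMonoidHom,
        (t : Matrix (ι ⊕ ι) (ι ⊕ ι) F) * (x.1 * fromBlocks (1 : Matrix ι ι F) 0 0 0 * (x⁻¹).1) =
          (x.1 * fromBlocks (1 : Matrix ι ι F) 0 0 0 * (x⁻¹).1) *
            (t : Matrix (ι ⊕ ι) (ι ⊕ ι) F) := by
      rintro _ ⟨g', hg', rfl⟩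
      obtain ⟨a, -, b, -, rfl⟩ := hg'.2
      rw [MulEquiv.coe_toMonoidHom, MulAut.conj_apply, Units.val_mul, Units.val_mul]
      have hxx : (x⁻¹).1 * x.1 = 1 := by rw [← Units.val_mul, inv_mul_cancel, Units.val_one]
      calc x.1 * (bd a b).1 * (x⁻¹).1 * (x.1 * fromBlocks 1 0 0 0 * (x⁻¹).1)
          = x.1 * (bd a b).1 * ((x⁻¹).1 * x.1) * fromBlocks 1 0 0 0 * (x⁻¹).1 := by
            simp only [Matrix.mul_assoc]
        _ = x.1 * ((bd a b).1 * fromBlocks 1 0 0 0) * (x⁻¹).1 := by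
            rw [hxx, Matrix.mul_one, Matrix.mul_assoc x.1]
        _ = x.1 * (fromBlocks 1 0 0 0 * (bd a b).1) * (x⁻¹).1 := by rw [bd_comm_e]
        _ = x.1 * fromBlocks 1 0 0 0 * ((x⁻¹).1 * x.1) * (bd a b).1 * (x⁻¹).1 := by
            rw [hxx, Matrix.mul_one]
            simp only [Matrix.mul_assoc]
        _ = x.1 * fromBlocks 1 0 0 0 * (x⁻¹).1 * (x.1 * (bd a b).1 * (x⁻¹).1) := by
            simp only [Matrix.mul_assoc]
    obtain ⟨l, hl⟩ := hK _ hT ⟨a', b', hτ⟩ _ hE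
    have hxx : (x⁻¹).1 * x.1 = 1 := by rw [← Units.val_mul, inv_mul_cancel, Units.val_one]
    have : fromBlocks (1 : Matrix ι ι F) 0 0 0 = l • (1 : Matrix (ι ⊕ ι) (ι ⊕ ι) F) := by
      calc fromBlocks (1 : Matrix ι ι F) 0 0 0
          = (x⁻¹).1 * (x.1 * fromBlocks (1 : Matrix ι ι F) 0 0 0 * (x⁻¹).1) * x.1 := by
            rw [Matrix.mul_assoc x.1, ← Matrix.mul_assoc (x⁻¹).1, hxx, Matrix.one_mul,
              Matrix.mul_assoc, hxx, Matrix.mul_one]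
        _ = (x⁻¹).1 * (l • 1) * x.1 := by rw [hl]
        _ = l • 1 := by
            rw [Matrix.mul_smul, Matrix.mul_one, Matrix.smul_mul, hxx]
    exact e_ne_smul l this

end Cfsg.Agent.Helper99.Pron.Back
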