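import Mathlib
import Cfsg.Agent.Helper99.Pron.Defs
import Cfsg.Agent.Helper10.PronGIDX
import Cfsg.Agent.Helper10.PronWPROJ
import Cfsg.Agent.Helper34.PronDET
import Cfsg.Agent.Helper34.PronGMAB
import Cfsg.Agent.Helper37.PronG3
import Cfsg.Agent.Helper37.PronGMC
import Cfsg.Agent.Helper55.PronBM1
import Cfsg.Agent.Helper55.PronBM3
import Cfsg.Agent.Helper63.PronGK2
import Cfsg.Agent.Helper63.PronGM
import Cfsg.Agent.Helper64.PronI1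
import Cfsg.Agent.Helper64.PronNEG
import Cfsg.Agent.Helper66.PronIX
import Cfsg.Agent.Helper66.PronIX3
import Cfsg.Agent.Helper66.PronSPROJ
import Cfsg.Agent.Helper85.PronC6
import Cfsg.Agent.Helper85.PronGK
import Cfsg.Agent.Helper99.Pron.BackC6U
import Cfsg.Agent.Helper99.Pron.BackGN

/-!
# S2225/S2226 block I: glue
-/

set_option autoImplicit false

namespace Cfsg.Agent.Helper99.Pron

open Matrix

variable {F : Type*} [Field F] {ι : Type*} [Fintype ι] [DecidableEq ι]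

/-! ### block matrix lemmas -/

/-- (BM1) a matrix commuting with `diag(-1, 1)` is block diagonal (`2 ≠ 0`).
Write `X = fromBlocks X.toBlocks₁₁ ..` (`fromBlocks_toBlocks`), multiply out with
`fromBlocks_multiply`, compare blocks with `fromBlocks_inj`: `-X₁₂ = X₁₂`, `X₂₁ = -X₂₁`. -/
theorem BM1 (h2 : (2 : F) ≠ 0) (X : Matrix (ι ⊕ ι) (ι ⊕ ι) F)
    (h : fromBlocks (-1 : Matrix ι ι F) 0 0 1 * X = X * fromBlocks (-1 : Matrix ι ι F) 0 0 1) :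
    X.toBlocks₁₂ = 0 ∧ X.toBlocks₂₁ = 0 :=
  Cfsg.Agent.Helper55.Pron.BM1 h2 X h

/-- (BM3) `diag(l, m)` commuting with an antidiagonal invertible block matrix forces `l = m`:
the `(1,2)` block gives `m • a = l • a`, and `a ≠ 0` since it is a unit on a nonempty index type. -/
theorem BM3 [Nonempty ι] (l m : F) (a b : GL ι F)
    (h : (ad a b : GL (ι ⊕ ι) F).1 * fromBlocks (l • (1 : Matrix ι ι F)) 0 0 (m • 1) =
      fromBlocks (l • (1 : Matrix ι ι F)) 0 0 (m • 1) * (ad a b : GL (ι ⊕ ι) F).1) : l = m :=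
  Cfsg.Agent.Helper55.Pron.BM3 l m a b h

/-- (DETBD) determinant of a block diagonal element (`det_fromBlocks_zero₂₁`) -/
theorem det_bd (a b : GL ι F) :
    ((bd a b : GL (ι ⊕ ι) F) : Matrix (ι ⊕ ι) (ι ⊕ ι) F).det =
      (a : Matrix ι ι F).det * (b : Matrix ι ι F).det :=
  Cfsg.Agent.Helper34.Pron.det_bd a b

/-- (DETJ) `det [[0,1],[-1,0]] = 1`. E.g. `[[0,1],[-1,0]] = [[1,1],[0,1]] * [[1,0],[-1,1]] * [[1,1],[0,1]]`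
(three block unitriangular factors, `det_fromBlocks_zero₂₁`, `det_fromBlocks_zero₁₂`). -/
theorem det_J : (fromBlocks (0 : Matrix ι ι F) (1 : Matrix ι ι F) (-1) 0).det = 1 :=
  Cfsg.Agent.Helper34.Pron.det_J 

/-! ### index two lemmas (pure group theory) -/

section idx
variable {G : Type*} [Group G] {W T : Subgroup G}

/-- (IX1) squares lie in a subgroup of index at most two -/
theorem Idx2.sq_mem (h : Idx2 W T) {g : G} (hg : g ∈ W) : g * g ∈ T :=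
  Cfsg.Agent.Helper66.Pron.Idx2.sq_mem h hg

/-- (IX2) `g * (w g w⁻¹) ∈ T` for `g w ∈ W`. If `g ∈ T`: `T` is normal in `W` (if `w ∉ T` then
`w * g ∉ T`, `w⁻¹ ∉ T`, so their product is in `T`). If `g ∉ T` then `w g w⁻¹ ∉ T` (same normality)
and the product of two non-members is a member. -/
theorem Idx2.mul_conj_mem (h : Idx2 W T) {g w : G} (hg : g ∈ W) (hw : w ∈ W) :
    g * (w * g * w⁻¹) ∈ T :=
  Cfsg.Agent.Helper66.Pron.Idx2.mul_conj_mem h hg hw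

/-- (IX3) conjugating `T` by an element normalising `W` keeps index at most two -/
theorem Idx2.map_conj (h : Idx2 W T) {x : G} (hx : x ∈ Subgroup.normalizer (W : Set G)) :
    Idx2 W (T.map (MulAut.conj x).toMonoidHom) :=
  Cfsg.Agent.Helper66.Pron.Idx2.map_conj h hx

end idx

/-! ### the general normaliser lemma -/

/-- (GK2) commutant of a subgroup `T` of block matrices that contains `diag(-1,1)` and projects onto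
`Q` in both coordinates, where the commutant of `Q` is the scalars: `X = diag(l, m)`.
BM1 makes `X` block diagonal (write `X = fromBlocks ..` by `fromBlocks_toBlocks`); for `a ∈ Q` pick `b`
with `bd a b ∈ T`; block `(1,1)` of `hX` gives `a * X₁₁ = X₁₁ * a`; `hQ` gives `X₁₁ = l • 1`. -/
theorem GK2 (h2 : (2 : F) ≠ 0) (Q : Subgroup (GL ι F))
    (hQ : ∀ X : Matrix ι ι F,
      (∀ a ∈ Q, (a : Matrix ι ι F) * X = X * (a : Matrix ι ι F)) → ∃ l : F, X = l • 1)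
    (T : Subgroup (GL (ι ⊕ ι) F))
    (hneg : ∃ m : GL ι F, (m : Matrix ι ι F) = -1 ∧ bd m 1 ∈ T)
    (hp1 : ∀ a ∈ Q, ∃ b : GL ι F, bd a b ∈ T) (hp2 : ∀ b ∈ Q, ∃ a : GL ι F, bd a b ∈ T)
    (X : Matrix (ι ⊕ ι) (ι ⊕ ι) F)
    (hX : ∀ g ∈ T, (g : Matrix (ι ⊕ ι) (ι ⊕ ι) F) * X = X * (g : Matrix (ι ⊕ ι) (ι ⊕ ι) F)) :
    ∃ l m : F, X = fromBlocks (l • (1 : Matrix ι ι F)) 0 0 (m • 1) :=
  Cfsg.Agent.Helper63.Pron.GK2 h2 Q hQ T hneg hp1 hp2 X hX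

/-- (GK) if moreover `T` contains an antidiagonal element, the commutant is the scalars (GK2 + BM3;
`fromBlocks (l • 1) 0 0 (l • 1) = l • 1` by `fromBlocks_smul`, `fromBlocks_one`). -/
theorem GK [Nonempty ι] (h2 : (2 : F) ≠ 0) (Q : Subgroup (GL ι F))
    (hQ : ∀ X : Matrix ι ι F,
      (∀ a ∈ Q, (a : Matrix ι ι F) * X = X * (a : Matrix ι ι F)) → ∃ l : F, X = l • 1)
    (T : Subgroup (GL (ι ⊕ ι) F))
    (hneg : ∃ m : GL ι F, (m : Matrix ι ι F) = -1 ∧ bd m 1 ∈ T)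
    (hτ : ∃ a₀ b₀ : GL ι F, ad a₀ b₀ ∈ T)
    (hp1 : ∀ a ∈ Q, ∃ b : GL ι F, bd a b ∈ T) (hp2 : ∀ b ∈ Q, ∃ a : GL ι F, bd a b ∈ T)
    (X : Matrix (ι ⊕ ι) (ι ⊕ ι) F)
    (hX : ∀ g ∈ T, (g : Matrix (ι ⊕ ι) (ι ⊕ ι) F) * X = X * (g : Matrix (ι ⊕ ι) (ι ⊕ ι) F)) :
    ∃ l : F, X = l • 1 :=
  Cfsg.Agent.Helper85.Pron.GK h2 Q hQ T hneg hτ hp1 hp2 X hX

/-- (GIDX) the block diagonal part of a subgroup of `Wr P` has index at most two: two elements of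
`Y` outside `Bs P` are both of the form `ad ..`, and `ad_mul_ad` makes their product a `bd`. -/
theorem GIDX (P : Subgroup (GL ι F)) (Y : Subgroup (GL (ι ⊕ ι) F)) (hY : Y ≤ Wr P) :
    Idx2 Y (Y ⊓ Bs P) :=
  Cfsg.Agent.Helper10.Pron.GIDX P Y hY

/-- (GN) an element normalising `Y` maps the block diagonal part of `Y` into block diagonal matrices,
provided every index-two subgroup of `Y` containing an antidiagonal element has scalar commutant.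
Proof: else some `x g x⁻¹` (`g ∈ Y ⊓ Bs P`) is in `Y ≤ Wr P` but not in `Bs P`, so it is an `ad a' b'`;
`T := (Y ⊓ Bs P).map (conj x)` has `Idx2 Y T` (GIDX, IX3) and contains it. The matrix
`E := x * fromBlocks 1 0 0 0 * x⁻¹` commutes with `T` (every `bd a b` commutes with `fromBlocks 1 0 0 0`),
so `E = l • 1`, so `fromBlocks 1 0 0 0 = l • 1`, absurd (`1 = l • 1` and `0 = l • 1` on `ι ≠ ∅`). -/
theorem GN [Nonempty ι] (P : Subgroup (GL ι F)) (Y : Subgroup (GL (ι ⊕ ι) F)) (hY : Y ≤ Wr P)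
    (hK : ∀ T : Subgroup (GL (ι ⊕ ι) F), Idx2 Y T → (∃ a b : GL ι F, ad a b ∈ T) →
      ∀ X : Matrix (ι ⊕ ι) (ι ⊕ ι) F,
        (∀ g ∈ T, (g : Matrix (ι ⊕ ι) (ι ⊕ ι) F) * X = X * (g : Matrix (ι ⊕ ι) (ι ⊕ ι) F)) →
          ∃ l : F, X = l • 1)
    (x : GL (ι ⊕ ι) F) (hx : x ∈ Subgroup.normalizer (Y : Set (GL (ι ⊕ ι) F))) :
    ∀ g ∈ Y ⊓ Bs P, x * g * x⁻¹ ∈ Bs P :=
  Cfsg.Agent.Helper99.Pron.Back.GN P Y hY hK x hx

/-- (GMa) an invertible block diagonal matrix is a `bd` (`det_fromBlocks_zero₂₁`: both diagonal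
blocks have nonzero determinant; `Matrix.GeneralLinearGroup.mkOfDetNeZero`). -/
theorem exists_bd_of_blocks (x : GL (ι ⊕ ι) F)
    (h12 : (x : Matrix (ι ⊕ ι) (ι ⊕ ι) F).toBlocks₁₂ = 0)
    (h21 : (x : Matrix (ι ⊕ ι) (ι ⊕ ι) F).toBlocks₂₁ = 0) : ∃ x₁ x₂ : GL ι F, x = bd x₁ x₂ :=
  Cfsg.Agent.Helper34.Pron.exists_bd_of_blocks x h12 h21

/-- (GMb) an invertible block antidiagonal matrix is an `ad`. (Multiply by `ad 1 1` and use GMa, or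
argue with the inverse: `x * x⁻¹ = 1` blockwise.) -/
theorem exists_ad_of_blocks (x : GL (ι ⊕ ι) F)
    (h11 : (x : Matrix (ι ⊕ ι) (ι ⊕ ι) F).toBlocks₁₁ = 0)
    (h22 : (x : Matrix (ι ⊕ ι) (ι ⊕ ι) F).toBlocks₂₂ = 0) : ∃ x₁ x₂ : GL ι F, x = ad x₁ x₂ :=
  Cfsg.Agent.Helper34.Pron.exists_ad_of_blocks x h11 h22

/-- (GMc) if `x⁻¹ * diag(1,0) * x = diag(l,m)` (scalar blocks) then `x` is block diagonal or block
antidiagonal. `e' = diag(l,m)` is idempotent so `l, m ∈ {0,1}`; `(1,1)` gives `diag(1,0) = 1`,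
`(0,0)` gives `diag(1,0) = 0`: absurd on `ι ≠ ∅`; `(1,0)`: `diag(1,0) * x = x * diag(1,0)` so
`x₁₂ = 0 = x₂₁` (GMa); `(0,1)`: `diag(1,0) * x = x * diag(0,1)` so `x₁₁ = 0 = x₂₂` (GMb). -/
theorem GMc [Nonempty ι] (x : GL (ι ⊕ ι) F) (l m : F)
    (h : (x⁻¹ : GL (ι ⊕ ι) F).1 * fromBlocks (1 : Matrix ι ι F) 0 0 0 * x.1 =
      fromBlocks (l • (1 : Matrix ι ι F)) 0 0 (m • 1)) :
    (∃ x₁ x₂ : GL ι F, x = bd x₁ x₂) ∨ (∃ x₁ x₂ : GL ι F, x = ad x₁ x₂) :=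
  Cfsg.Agent.Helper37.Pron.GMc x l m h

/-- (GM) an element conjugating the block diagonal part of `Y` into block diagonal matrices is block
diagonal or antidiagonal. `e' := x⁻¹ * diag(1,0) * x` commutes with every `g ∈ Y ⊓ Bs P`
(`x g x⁻¹ ∈ Bs P` commutes with `diag(1,0)`); GK2 with `T := Y ⊓ Bs P`, `Q := P`; then GMc. -/
theorem GM [Nonempty ι] (h2 : (2 : F) ≠ 0) (P : Subgroup (GL ι F))
    (hc : ∀ X : Matrix ι ι F,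
      (∀ a ∈ P, (a : Matrix ι ι F) * X = X * (a : Matrix ι ι F)) → ∃ l : F, X = l • 1)
    (Y : Subgroup (GL (ι ⊕ ι) F))
    (hneg : ∃ m : GL ι F, (m : Matrix ι ι F) = -1 ∧ m ∈ P ∧ bd m 1 ∈ Y)
    (hd : ∀ a ∈ P, ∃ b ∈ P, bd a b ∈ Y) (hd' : ∀ b ∈ P, ∃ a ∈ P, bd a b ∈ Y)
    (x : GL (ι ⊕ ι) F) (hx : ∀ g ∈ Y ⊓ Bs P, x * g * x⁻¹ ∈ Bs P) :
    (∃ x₁ x₂ : GL ι F, x = bd x₁ x₂) ∨ (∃ x₁ x₂ : GL ι F, x = ad x₁ x₂) :=
  Cfsg.Agent.Helper63.Pron.GM h2 P hc Y hneg hd hd' x hx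

/-- (G3) a block diagonal element normalising `Y` lies in (scalars) * `Wr P`.
`x₁, x₂ ∈ N(P)`: `a ∈ P ↔ x₁ a x₁⁻¹ ∈ P` from `hd` and `mem_normalizer_iff` for `Y ≤ Wr P`
(`bd_mul_bd`, `bd_inv`, `bd_ne_ad`, `bd_injective`); `hn` gives `x_i = sc l_i * p_i`; conjugating
`ad a₀ b₀ ∈ Y` gives `ad (x₁ a₀ x₂⁻¹) (x₂ b₀ x₁⁻¹) ∈ Wr P`, so `x₁ a₀ x₂⁻¹ ∈ P`, so
`sc (l₁ / l₂) ∈ P`, and `bd x₁ x₂ = sc l₂ * bd (sc (l₁ / l₂) * p₁) p₂` (`bd_sc`, `sc_comm`). -/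
theorem G3 [Nonempty ι] (P : Subgroup (GL ι F))
    (hn : ∀ x ∈ Subgroup.normalizer (P : Set (GL ι F)), ∃ l : Fˣ, ∃ p ∈ P, x = sc l * p)
    (Y : Subgroup (GL (ι ⊕ ι) F)) (hY : Y ≤ Wr P)
    (hd : ∀ a ∈ P, ∃ b ∈ P, bd a b ∈ Y) (hd' : ∀ b ∈ P, ∃ a ∈ P, bd a b ∈ Y)
    (hb : ∃ a₀ ∈ P, ∃ b₀ ∈ P, ad a₀ b₀ ∈ Y) (x₁ x₂ : GL ι F)
    (hx : bd x₁ x₂ ∈ Subgroup.normalizer (Y : Set (GL (ι ⊕ ι) F))) :
    ∃ l : Fˣ, ∃ w ∈ Wr P, bd x₁ x₂ = sc l * w :=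
  Cfsg.Agent.Helper37.Pron.G3 P hn Y hY hd hd' hb x₁ x₂ hx

/-! ### the two projection lemmas -/

/-- (WPROJ) an index-two subgroup `T` of `Wr P` containing `ad a₀ b₀` projects onto `P` in both
coordinates: `bd a (b₀ a b₀⁻¹) = g * (τ g τ⁻¹)` with `g = bd a 1`, `τ = ad a₀ b₀` (IX2);
symmetrically `bd (a₀ b a₀⁻¹) b`. (`a₀ b₀ ∈ P` because `T ≤ Wr P`: `ad_injective`, `bd_ne_ad`.) -/
theorem WPROJ [Nonempty ι] (P : Subgroup (GL ι F)) (T : Subgroup (GL (ι ⊕ ι) F))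
    (hT : Idx2 (Wr P) T) (hτ : ∃ a₀ b₀ : GL ι F, ad a₀ b₀ ∈ T) :
    (∀ a ∈ P, ∃ b : GL ι F, bd a b ∈ T) ∧ (∀ b ∈ P, ∃ a : GL ι F, bd a b ∈ T) :=
  Cfsg.Agent.Helper10.Pron.WPROJ P T hT hτ

/-- (SPROJ) an index-two subgroup `T` of `Wr P ⊓ SLs` containing `ad a₀ b₀` projects onto a subgroup
containing `Ksub P` in both coordinates. For `a ∈ Ksub P` (`det a = (det e)²`, `e ∈ P`):
case 1, some `k ∈ P` with `det k = 1` has `bd 1 k ∉ T`: `bd a a⁻¹ ∈ T`, or else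
`bd a (a⁻¹ k) = bd a a⁻¹ * bd 1 k ∈ T`;
case 2, all `bd 1 k ∈ T` (`k ∈ P`, `det k = 1`): then all `bd k 1 ∈ T` too (conjugate by
`τ = ad a₀ b₀ ∈ T`: `τ * bd 1 (a₀⁻¹ k a₀) * τ⁻¹ = bd k 1`), and
`bd a e⁻² = bd (a e⁻²) 1 * (bd e e⁻¹)²` with `det (a e⁻²) = 1` and IX1. Second half symmetric. -/
theorem SPROJ [Nonempty ι] (P : Subgroup (GL ι F)) (T : Subgroup (GL (ι ⊕ ι) F))
    (hT : Idx2 (Wr P ⊓ SLs (ι ⊕ ι) F) T) (hτ : ∃ a₀ b₀ : GL ι F, ad a₀ b₀ ∈ T) :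
    (∀ a ∈ Ksub P, ∃ b : GL ι F, bd a b ∈ T) ∧ (∀ b ∈ Ksub P, ∃ a : GL ι F, bd a b ∈ T) :=
  Cfsg.Agent.Helper66.Pron.SPROJ P T hT hτ

/-! ### the invariants of `Wr P` -/

/-- (I1) `Wr P` is a `2`-group: `(bd a b)^n = bd (a^n) (b^n)`, `(ad a b)^2 = bd (a b) (b a)`. -/
theorem two_Wr (P : Subgroup (GL ι F)) (h : ∀ a ∈ P, ∃ k : ℕ, a ^ (2 ^ k) = 1) :
    ∀ g ∈ Wr P, ∃ k : ℕ, g ^ (2 ^ k) = 1 :=
  Cfsg.Agent.Helper64.Pron.two_Wr P h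

/-- (NEG) `bd c c⁻¹` is a square root of `-1` of determinant one in `Wr P` (det_bd). -/
theorem neg1_Wr (P : Subgroup (GL ι F))
    (h : ∃ c ∈ P, (c : Matrix ι ι F) * (c : Matrix ι ι F) = -1) :
    ∃ c ∈ Wr P, (c : Matrix (ι ⊕ ι) (ι ⊕ ι) F) * (c : Matrix (ι ⊕ ι) (ι ⊕ ι) F) = -1 ∧
      (c : Matrix (ι ⊕ ι) (ι ⊕ ι) F).det = 1 :=
  Cfsg.Agent.Helper64.Pron.neg1_Wr P h

/-- (C6) commutant of `Ksub (Wr P)` is the scalars, for `P` with `InvP`: `Ksub (Wr P)` contains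
`bd c 1` (`c` from `neg1`; its square is `diag(-1,1)`), `bd a a⁻¹` (`a ∈ P`) and `ad 1 m` with
`m = c * c` (`m.1 = -1`, determinant one by det_J); all have determinant `1 = (det 1)²`.
Use GK with `Q := P`, `T := Ksub (Wr P)`. -/
theorem comm6_Wr [Nonempty ι] (h2 : (2 : F) ≠ 0) (P : Subgroup (GL ι F)) (hP : InvP P) :
    ∀ X : Matrix (ι ⊕ ι) (ι ⊕ ι) F,
      (∀ g ∈ Wr P, (∃ e ∈ Wr P, (g : Matrix (ι ⊕ ι) (ι ⊕ ι) F).det =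
          (e : Matrix (ι ⊕ ι) (ι ⊕ ι) F).det ^ 2) →
        (g : Matrix (ι ⊕ ι) (ι ⊕ ι) F) * X = X * (g : Matrix (ι ⊕ ι) (ι ⊕ ι) F)) →
      ∃ l : F, X = l • 1 :=
  Cfsg.Agent.Helper85.Pron.comm6_Wr h2 P hP

/-- (C6U) the same on a one point index type, from `Inv P` only: every `1 × 1` matrix is a scalar;
`c ∈ P` with `c * c = -1`; `bd c c⁻¹ ∈ Ksub (Wr P)` and `c X₁₂ = X₁₂ c⁻¹ = -X₁₂ c` forces
`2 c X₁₂ = 0` (everything commutes in dimension one), so `X₁₂ = 0`, same for `X₂₁`; `ad 1 (c * c)`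
(determinant one, det_J) and BM3 finish. -/
theorem comm6_Wr_of_unique [Unique ι] (h2 : (2 : F) ≠ 0) (P : Subgroup (GL ι F)) (hP : Inv P) :
    ∀ X : Matrix (ι ⊕ ι) (ι ⊕ ι) F,
      (∀ g ∈ Wr P, (∃ e ∈ Wr P, (g : Matrix (ι ⊕ ι) (ι ⊕ ι) F).det =
          (e : Matrix (ι ⊕ ι) (ι ⊕ ι) F).det ^ 2) →
        (g : Matrix (ι ⊕ ι) (ι ⊕ ι) F) * X = X * (g : Matrix (ι ⊕ ι) (ι ⊕ ι) F)) →
      ∃ l : F, X = l • 1 :=
  Cfsg.Agent.Helper99.Pron.Back.comm6_Wr_of_unique h2 P hP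


/-! ### assembly -/

/-- the general normaliser theorem -/
theorem G_main [Nonempty ι] (h2 : (2 : F) ≠ 0) (P : Subgroup (GL ι F))
    (hc : ∀ X : Matrix ι ι F,
      (∀ a ∈ P, (a : Matrix ι ι F) * X = X * (a : Matrix ι ι F)) → ∃ l : F, X = l • 1)
    (hn : ∀ x ∈ Subgroup.normalizer (P : Set (GL ι F)), ∃ l : Fˣ, ∃ p ∈ P, x = sc l * p)
    (Y : Subgroup (GL (ι ⊕ ι) F)) (hY : Y ≤ Wr P)
    (Q : Subgroup (GL ι F))
    (hQ : ∀ X : Matrix ι ι F,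
      (∀ a ∈ Q, (a : Matrix ι ι F) * X = X * (a : Matrix ι ι F)) → ∃ l : F, X = l • 1)
    (hneg : ∃ c : GL ι F, c ∈ P ∧ (c : Matrix ι ι F) * (c : Matrix ι ι F) = -1 ∧ bd c 1 ∈ Y)
    (hb : ∃ a₀ ∈ P, ∃ b₀ ∈ P, ad a₀ b₀ ∈ Y)
    (hd : ∀ a ∈ P, ∃ b ∈ P, bd a b ∈ Y) (hd' : ∀ b ∈ P, ∃ a ∈ P, bd a b ∈ Y)
    (hproj : ∀ T : Subgroup (GL (ι ⊕ ι) F), Idx2 Y T → (∃ a b : GL ι F, ad a b ∈ T) →
      (∀ a ∈ Q, ∃ b : GL ι F, bd a b ∈ T) ∧ (∀ b ∈ Q, ∃ a : GL ι F, bd a b ∈ T))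
    (x : GL (ι ⊕ ι) F) (hx : x ∈ Subgroup.normalizer (Y : Set (GL (ι ⊕ ι) F))) :
    ∃ l : Fˣ, ∃ w ∈ Wr P, x = sc l * w := by
  obtain ⟨c, hcP, hcc, hcY⟩ := hneg
  -- the element `m = c * c` with matrix `-1`
  have hm : ((c * c : GL ι F) : Matrix ι ι F) = -1 := by rw [Units.val_mul, hcc]
  have hmY : bd (c * c) 1 ∈ Y := by
    have := Y.mul_mem hcY hcY
    rwa [bd_mul_bd, mul_one] at this
  -- commutants of index two subgroups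
  have hK : ∀ T : Subgroup (GL (ι ⊕ ι) F), Idx2 Y T → (∃ a b : GL ι F, ad a b ∈ T) →
      ∀ X : Matrix (ι ⊕ ι) (ι ⊕ ι) F,
        (∀ g ∈ T, (g : Matrix (ι ⊕ ι) (ι ⊕ ι) F) * X = X * (g : Matrix (ι ⊕ ι) (ι ⊕ ι) F)) →
          ∃ l : F, X = l • 1 := by
    intro T hT hτ X hX
    obtain ⟨hp1, hp2⟩ := hproj T hT hτ
    have hsq : bd (c * c) 1 ∈ T := by
      have := hT.sq_mem hcY
      rwa [bd_mul_bd, mul_one] at this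
    exact GK h2 Q hQ T ⟨c * c, hm, hsq⟩ hτ hp1 hp2 X hX
  have hxinv : x⁻¹ ∈ Subgroup.normalizer (Y : Set (GL (ι ⊕ ι) F)) := Subgroup.inv_mem _ hx
  have hN := GN P Y hY hK x⁻¹ hxinv
  have hN' : ∀ g ∈ Y ⊓ Bs P, x⁻¹ * g * x ∈ Bs P := by
    intro g hg
    have := hN g hg
    rwa [inv_inv] at this
  have hN2 := GN P Y hY hK x hx
  rcases GM h2 P hc Y ⟨c * c, hm, P.mul_mem hcP hcP, hmY⟩ hd hd' x hN2 with
    ⟨x₁, x₂, rfl⟩ | ⟨x₁, x₂, rfl⟩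
  · exact G3 P hn Y hY hd hd' hb x₁ x₂ hx
  · obtain ⟨a₀, ha₀, b₀, hb₀, hτY⟩ := hb
    have hτN : ad a₀ b₀ ∈ Subgroup.normalizer (Y : Set (GL (ι ⊕ ι) F)) :=
      Subgroup.le_normalizer hτY
    have h1 : ad x₁ x₂ * ad a₀ b₀ ∈ Subgroup.normalizer (Y : Set (GL (ι ⊕ ι) F)) :=
      Subgroup.mul_mem _ hx hτN
    rw [ad_mul_ad] at h1
    obtain ⟨l, w, hw, he⟩ := G3 P hn Y hY hd hd' ⟨a₀, ha₀, b₀, hb₀, hτY⟩ _ _ h1
    refine ⟨l, w * (ad a₀ b₀)⁻¹, (Wr P).mul_mem hw ((Wr P).inv_mem (hY hτY)), ?_⟩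
    rw [← mul_assoc, ← he, ← ad_mul_ad, mul_inv_cancel_right]

theorem det_inv_mul (a : GL ι F) : ((a⁻¹ : GL ι F) : Matrix ι ι F).det * (a : Matrix ι ι F).det = 1 := by
  rw [← det_mul, ← Units.val_mul, inv_mul_cancel, Units.val_one, det_one]

theorem det_mul_inv (a : GL ι F) : (a : Matrix ι ι F).det * ((a⁻¹ : GL ι F) : Matrix ι ι F).det = 1 := by
  rw [mul_comm, det_inv_mul]

/-- (I3) for `Wr P` -/
theorem norm_Wr [Nonempty ι] (h2 : (2 : F) ≠ 0) (P : Subgroup (GL ι F)) (hP : Inv P) :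
    ∀ x ∈ Subgroup.normalizer ((Wr P : Subgroup (GL (ι ⊕ ι) F)) : Set (GL (ι ⊕ ι) F)),
      ∃ l : Fˣ, ∃ w ∈ Wr P, x = sc l * w := by
  intro x hx
  obtain ⟨c, hcP, hcc⟩ := hP.neg
  exact G_main h2 P hP.comm hP.norm (Wr P) le_rfl P hP.comm
    ⟨c, hcP, hcc, bd_mem_Wr hcP P.one_mem⟩
    ⟨1, P.one_mem, 1, P.one_mem, ad_mem_Wr P.one_mem P.one_mem⟩
    (fun a ha => ⟨1, P.one_mem, bd_mem_Wr ha P.one_mem⟩)
    (fun b hb => ⟨1, P.one_mem, bd_mem_Wr P.one_mem hb⟩)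
    (fun T hT hτ => WPROJ P T hT hτ) x hx

/-- (I2) for `Wr P` -/
theorem comm_Wr [Nonempty ι] (h2 : (2 : F) ≠ 0) (P : Subgroup (GL ι F)) (hP : Inv P) :
    ∀ X : Matrix (ι ⊕ ι) (ι ⊕ ι) F,
      (∀ g ∈ Wr P, (g : Matrix (ι ⊕ ι) (ι ⊕ ι) F) * X = X * (g : Matrix (ι ⊕ ι) (ι ⊕ ι) F)) →
      ∃ l : F, X = l • 1 := by
  intro X hX
  obtain ⟨c, hcP, hcc⟩ := hP.neg
  have hm : ((c * c : GL ι F) : Matrix ι ι F) = -1 := by rw [Units.val_mul, hcc]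
  exact GK h2 P hP.comm (Wr P) ⟨c * c, hm, bd_mem_Wr (P.mul_mem hcP hcP) P.one_mem⟩
    ⟨1, 1, ad_mem_Wr P.one_mem P.one_mem⟩
    (fun a ha => ⟨1, bd_mem_Wr ha P.one_mem⟩) (fun b hb => ⟨1, bd_mem_Wr P.one_mem hb⟩) X hX

/-- `Inv` passes to `Wr` -/
theorem inv_Wr [Nonempty ι] (h2 : (2 : F) ≠ 0) (P : Subgroup (GL ι F)) (hP : Inv P) :
    Inv (Wr P) where
  two := two_Wr P hP.two
  comm := comm_Wr h2 P hP
  norm := norm_Wr h2 P hP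
  neg := by
    obtain ⟨c, hc, hcc, -⟩ := neg1_Wr P hP.neg
    exact ⟨c, hc, hcc⟩

/-- `InvP` passes to `Wr` -/
theorem invP_Wr [Nonempty ι] (h2 : (2 : F) ≠ 0) (P : Subgroup (GL ι F)) (hP : InvP P) :
    InvP (Wr P) where
  toInv := inv_Wr h2 P hP.toInv
  comm6 := comm6_Wr h2 P hP
  neg1 := neg1_Wr P hP.neg

/-- `Inv` on a one point index type gives `InvP` for `Wr` -/
theorem invP_Wr_of_unique [Unique ι] (h2 : (2 : F) ≠ 0) (P : Subgroup (GL ι F)) (hP : Inv P) :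
    InvP (Wr P) where
  toInv := inv_Wr h2 P hP
  comm6 := comm6_Wr_of_unique h2 P hP
  neg1 := neg1_Wr P hP.neg

/-- **the `SL` step**: the normaliser in `GL` of `Wr P ⊓ SLs` lies in (scalars) * `Wr P` -/
theorem sl_step [Nonempty ι] (h2 : (2 : F) ≠ 0) (P : Subgroup (GL ι F)) (hP : InvP P) :
    ∀ x ∈ Subgroup.normalizer ((Wr P ⊓ SLs (ι ⊕ ι) F : Subgroup (GL (ι ⊕ ι) F)) :
        Set (GL (ι ⊕ ι) F)), ∃ l : Fˣ, ∃ w ∈ Wr P, x = sc l * w := by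
  intro x hx
  obtain ⟨c, hcP, hcc, hcd⟩ := hP.neg1
  have hm : ((c * c : GL ι F) : Matrix ι ι F) = -1 := by rw [Units.val_mul, hcc]
  have hQ : ∀ X : Matrix ι ι F,
      (∀ a ∈ Ksub P, (a : Matrix ι ι F) * X = X * (a : Matrix ι ι F)) → ∃ l : F, X = l • 1 := by
    intro X hX
    exact hP.comm6 X (fun a ha he => hX a ⟨ha, he⟩)
  refine G_main h2 P hP.comm hP.norm (Wr P ⊓ SLs (ι ⊕ ι) F) inf_le_left (Ksub P) hQ
    ⟨c, hcP, hcc, bd_mem_Wr hcP P.one_mem, ?_⟩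
    ⟨1, P.one_mem, c * c, P.mul_mem hcP hcP, ad_mem_Wr P.one_mem (P.mul_mem hcP hcP), ?_⟩
    (fun a ha => ⟨a⁻¹, P.inv_mem ha, bd_mem_Wr ha (P.inv_mem ha), ?_⟩)
    (fun b hb => ⟨b⁻¹, P.inv_mem hb, bd_mem_Wr (P.inv_mem hb) hb, ?_⟩)
    (fun T hT hτ => SPROJ P T hT hτ) x hx
  · show bd c 1 ∈ SLs (ι ⊕ ι) F
    rw [mem_SLs, det_bd, hcd, Units.val_one, det_one, mul_one]
  · show ad 1 (c * c) ∈ SLs (ι ⊕ ι) F
    rw [mem_SLs, ad_val, hm, Units.val_one]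
    exact det_J
  · show bd a a⁻¹ ∈ SLs (ι ⊕ ι) F
    rw [mem_SLs, det_bd, det_mul_inv]
  · show bd b⁻¹ b ∈ SLs (ι ⊕ ι) F
    rw [mem_SLs, det_bd, det_inv_mul]

end Cfsg.Agent.Helper99.Pron
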