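import Mathlib
import Cfsg.Prelude.Def_HallClasses
import Cfsg.Prelude.Def_Classical
import Cfsg.Agent.Helper99.Pron.Defs
import Cfsg.Agent.Helper99.Pron.BlockI
import Cfsg.Agent.Helper66.PronTRANS
import Cfsg.Agent.Helper46.PronF1B
import Cfsg.Agent.Helper61.PronSLP
import Cfsg.Agent.Helper61.PronSUP
import Cfsg.Agent.Helper66.PronPARTS
import Cfsg.Agent.Helper66.PronREIDX
import Cfsg.Agent.Helper76.PronF1A
import Cfsg.Agent.Helper76.PronF1C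
import Cfsg.Agent.Helper87.PronSC
import Cfsg.Agent.Helper87.PronUQ

/-!
# S2225/S2226 block II: glue
-/

set_option autoImplicit false

namespace Cfsg.Agent.Helper99.Pron

open Matrix

variable {F : Type*} [Field F]

/-! ### one dimensional base, closure lemmas -/

/-- (SC) on a one point index type, a group of `2`-power order scalars containing a square root of
`-1` satisfies `Inv`: every `1 × 1` matrix `X` is `X default default • 1`; every `x : GL ι F` is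
`sc l * 1`; `two` from `sc (l ^ n) = sc l ^ n` (`scHom`); `neg` from `sc i`. -/
theorem inv_Sc {ι : Type*} [Fintype ι] [DecidableEq ι] [Unique ι] (L : Subgroup Fˣ)
    (hL : ∀ l ∈ L, ∃ k : ℕ, l ^ (2 ^ k) = 1) (hi : ∃ i ∈ L, (i : F) * (i : F) = -1) :
    Inv (Sc ι L) :=
  Cfsg.Agent.Helper87.Pron.inv_Sc L hL hi

/-- (UQW) the unitary condition passes to `Wr`: `fromBlocks_transpose`, `fromBlocks_map`,
`fromBlocks_multiply`, `fromBlocks_one`. -/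
theorem uq_Wr {ι : Type*} [Fintype ι] [DecidableEq ι] (q : ℕ) (hq : q ≠ 0)
    (P : Subgroup (GL ι F)) (h : ∀ a ∈ P, Uq q (a : Matrix ι ι F)) :
    ∀ g ∈ Wr P, Uq q (g : Matrix (ι ⊕ ι) (ι ⊕ ι) F) :=
  Cfsg.Agent.Helper87.Pron.uq_Wr q hq P h

/-- (UQS) scalars of norm one are unitary -/
theorem uq_sc {ι : Type*} [Fintype ι] [DecidableEq ι] (q : ℕ) (hq : q ≠ 0) (l : Fˣ)
    (h : l ^ (q + 1) = 1) :
    Uq q ((sc l : GL ι F) : Matrix ι ι F) :=
  Cfsg.Agent.Helper87.Pron.uq_sc q hq l h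

/-- (REIDX) reindexing `GL ι F ≃* GL (Fin n) F` along a bijection `ι ≃ Fin n`
(`Matrix.reindexAlgEquiv`, `Units.mapEquiv`), compatible with scalars, determinants and `Uq`. -/
theorem exists_reindex {ι : Type*} [Fintype ι] [DecidableEq ι] (n : ℕ)
    (hn : Fintype.card ι = n) :
    ∃ φ : GL ι F ≃* GL (Fin n) F, (∀ l : Fˣ, φ (sc l) = sc l) ∧
      (∀ g : GL ι F, ((φ g : GL (Fin n) F) : Matrix (Fin n) (Fin n) F).det = (g : Matrix ι ι F).det) ∧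
      ∀ (q : ℕ) (g : GL ι F), Uq q ((φ g : GL (Fin n) F) : Matrix (Fin n) (Fin n) F) ↔
        Uq q (g : Matrix ι ι F) :=
  Cfsg.Agent.Helper66.Pron.exists_reindex n hn

/-! ### from `GL` to `SL` / `SU` -/

/-- (PARTS) in a finite commutative group every element is a product of an element of `2`-power
order and an element of odd order (Bezout on `orderOf l = 2^a * m`), both powers of `l`. -/
theorem exists_two_odd_parts {A : Type*} [CommGroup A] [Finite A] (l : A) :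
    ∃ s t : ℕ, (∃ k : ℕ, (l ^ s) ^ (2 ^ k) = 1) ∧ Odd (orderOf (l ^ t)) ∧ l = l ^ s * l ^ t :=
  Cfsg.Agent.Helper66.Pron.exists_two_odd_parts l

/-- (SLP) the Sylow package in `SL (Fin n) F`. `S₁ := (W ⊓ SLs).comap toGL`.
If `x` normalises `S₁` then `toGL x` normalises `W ⊓ SLs` (every element of `SLs` is `toGL s`), so
`toGL x = sc l * w`. Split `l = l₂ * lₒ` (PARTS). `1 = det = l^n * det w`, `det w` has `2`-power
order, so `lₒ^n` has odd and `2`-power order: `lₒ^n = 1`. Then `sc lₒ` is a central element of `SL`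
of odd order (`Matrix.SpecialLinearGroup.mem_center_iff`) and `sc l₂ * w ∈ W ⊓ SLs` (`hs`).
`Z₀ := ` the odd order elements of the centre (a subgroup: commutative). -/
theorem sl_pack [Fintype F] (n : ℕ) (W : Subgroup (GL (Fin n) F))
    (hW2 : ∀ g ∈ W, ∃ k : ℕ, g ^ (2 ^ k) = 1)
    (hN : ∀ x ∈ Subgroup.normalizer ((W ⊓ SLs (Fin n) F : Subgroup (GL (Fin n) F)) :
      Set (GL (Fin n) F)), ∃ l : Fˣ, ∃ w ∈ W, x = sc l * w)
    (hs : ∀ l : Fˣ, (∃ k : ℕ, l ^ (2 ^ k) = 1) → (sc l : GL (Fin n) F) ∈ W) :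
    ∃ (S₁ Z₀ : Subgroup (Matrix.SpecialLinearGroup (Fin n) F)), IsPGroup 2 S₁ ∧
      Z₀ ≤ Subgroup.center (Matrix.SpecialLinearGroup (Fin n) F) ∧ Odd (Nat.card Z₀) ∧
      Subgroup.normalizer (S₁ : Set (Matrix.SpecialLinearGroup (Fin n) F)) ≤ Z₀ ⊔ S₁ :=
  Cfsg.Agent.Helper61.Pron.sl_pack n W hW2 hN hs

/-- (SUP) the Sylow package in `SU n F q`: as SLP with `toGL ∘ Subtype.val`; `x ∈ SU` and `w ∈ W`
unitary force `l ^ (q+1) = 1` (`sc l = toGL x * w⁻¹` is unitary: `Uq q (l • 1)` reads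
`l * l^q = 1`), so both parts of `l` have norm one; `sc lₒ` (norm one, `lₒ^n = 1`) gives a central
element of `SU` of odd order: `Z₀ :=` the odd order scalar elements of `SU`. An element of `SL` is
in `Cfsg.SU n F q` iff its matrix `M` satisfies `Uq q M` (unfold `Cfsg.SU`, `Cfsg.preserving`,
`Cfsg.hermForm`; `x ↦ x^q` is additive as `q` is a power of the characteristic: `hF`). -/
theorem su_pack [Fintype F] (q n : ℕ) (hF : Fintype.card F = q ^ 2)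
    (W : Subgroup (GL (Fin n) F))
    (hW2 : ∀ g ∈ W, ∃ k : ℕ, g ^ (2 ^ k) = 1)
    (hN : ∀ x ∈ Subgroup.normalizer ((W ⊓ SLs (Fin n) F : Subgroup (GL (Fin n) F)) :
      Set (GL (Fin n) F)), ∃ l : Fˣ, ∃ w ∈ W, x = sc l * w)
    (hs : ∀ l : Fˣ, l ^ (q + 1) = 1 → (∃ k : ℕ, l ^ (2 ^ k) = 1) → (sc l : GL (Fin n) F) ∈ W)
    (hU : ∀ g ∈ W, Uq q (g : Matrix (Fin n) (Fin n) F)) :
    ∃ (S₁ Z₀ : Subgroup (Cfsg.SU n F q)), IsPGroup 2 S₁ ∧
      Z₀ ≤ Subgroup.center (Cfsg.SU n F q) ∧ Odd (Nat.card Z₀) ∧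
      Subgroup.normalizer (S₁ : Set (Cfsg.SU n F q)) ≤ Z₀ ⊔ S₁ :=
  Cfsg.Agent.Helper61.Pron.su_pack q n hF W hW2 hN hs hU

/-! ### abstract finishing -/

/-- (F1A) a `2`-subgroup whose normaliser is (odd central) × itself is a Sylow `2`-subgroup:
`[N(S₁) : S₁]` divides `|Z₀|`, odd; `Sylow.card_quotient_normalizer_modEq_card_quotient` (or
`IsPGroup.index_normalizer...`) gives `[G : S₁]` odd; `Sylow.ofCard`. -/
theorem F1A {G : Type*} [Group G] [Finite G] (S₁ Z₀ : Subgroup G) (h2 : IsPGroup 2 S₁)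
    (hZ : Z₀ ≤ Subgroup.center G) (hodd : Odd (Nat.card Z₀))
    (hN : Subgroup.normalizer (S₁ : Set G) ≤ Z₀ ⊔ S₁) :
    ∃ P : Sylow 2 G, (P : Subgroup G) = S₁ :=
  Cfsg.Agent.Helper76.Pron.F1A S₁ Z₀ h2 hZ hodd hN

/-- (F1B) then the image of `S₁` in `G ⧸ center G` is a self-normalising Sylow `2`-subgroup:
if `x̄` normalises the image then `x` normalises `S₁ ⊔ center G`, in which `S₁` is the unique Sylow
`2`-subgroup (normal, as the centre commutes with it), so `x ∈ N(S₁) ≤ Z₀ ⊔ S₁` and `x̄` is in the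
image. -/
theorem F1B {G : Type*} [Group G] [Finite G] (S₁ Z₀ : Subgroup G) (h2 : IsPGroup 2 S₁)
    (hZ : Z₀ ≤ Subgroup.center G) (hodd : Odd (Nat.card Z₀))
    (hN : Subgroup.normalizer (S₁ : Set G) ≤ Z₀ ⊔ S₁) :
    ∃ P : Sylow 2 (G ⧸ Subgroup.center G),
      Subgroup.normalizer ((P : Subgroup (G ⧸ Subgroup.center G)) : Set (G ⧸ Subgroup.center G)) = P :=
  Cfsg.Agent.Helper46.Pron.F1B S₁ Z₀ h2 hZ hodd hN

/-- (F1C) if one Sylow `2`-subgroup is self-normalising, every subgroup of odd index is pronormal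
(all Sylow `2`-subgroups are conjugate, so all are self-normalising;
`Cfsg.Agent.Helper72.AltPro.exists_sylow_le_of_odd_index`, `isPronormal_of_sylow_le` in
Cfsg/Agent/Helper72/AltProS13.lean). -/
theorem F1C {G : Type*} [Group G] [Finite G]
    (h : ∃ P : Sylow 2 G, Subgroup.normalizer ((P : Subgroup G) : Set G) = P)
    (H : Subgroup G) (hH : Odd H.index) : Cfsg.IsPronormal H :=
  Cfsg.Agent.Helper76.Pron.F1C h H hH

/-- (TRANS) transport of the normaliser statement along a reindexing isomorphism -/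
theorem transport_pack {ι : Type*} [Fintype ι] [DecidableEq ι] (n : ℕ)
    (φ : GL ι F ≃* GL (Fin n) F) (hφs : ∀ l : Fˣ, φ (sc l) = sc l)
    (hφd : ∀ g : GL ι F,
      ((φ g : GL (Fin n) F) : Matrix (Fin n) (Fin n) F).det = (g : Matrix ι ι F).det)
    (W : Subgroup (GL ι F))
    (hN : ∀ x ∈ Subgroup.normalizer ((W ⊓ SLs ι F : Subgroup (GL ι F)) : Set (GL ι F)),
      ∃ l : Fˣ, ∃ w ∈ W, x = sc l * w) :
    ∀ x ∈ Subgroup.normalizer
      ((W.map φ.toMonoidHom ⊓ SLs (Fin n) F : Subgroup (GL (Fin n) F)) : Set (GL (Fin n) F)),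
      ∃ l : Fˣ, ∃ w ∈ W.map φ.toMonoidHom, x = sc l * w :=
  Cfsg.Agent.Helper66.Pron.transport_pack n φ hφs hφd W hN

/-- the data carried along the chain -/
def ChainAt (L : Subgroup Fˣ)
    (U : ∀ (κ : Type) [Fintype κ] [DecidableEq κ], Matrix κ κ F → Prop) (j : ℕ) : Prop :=
  ∃ (ι : Type) (_ : Fintype ι) (_ : DecidableEq ι) (_ : Nonempty ι) (P : Subgroup (GL ι F)),
    Fintype.card ι = 2 ^ j ∧ InvP P ∧ (∀ l ∈ L, sc l ∈ P) ∧ ∀ a ∈ P, U ι (a : Matrix ι ι F)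

theorem chain_succ (h2 : (2 : F) ≠ 0) (L : Subgroup Fˣ)
    (U : ∀ (κ : Type) [Fintype κ] [DecidableEq κ], Matrix κ κ F → Prop)
    (hU : ∀ (κ : Type) [Fintype κ] [DecidableEq κ] (P : Subgroup (GL κ F)),
      (∀ a ∈ P, U κ (a : Matrix κ κ F)) → ∀ g ∈ Wr P, U (κ ⊕ κ) (g : Matrix (κ ⊕ κ) (κ ⊕ κ) F))
    (j : ℕ) (h : ChainAt L U j) : ChainAt L U (j + 1) := by
  obtain ⟨ι, i1, i2, i3, P, hcard, hP, hs, hu⟩ := h
  refine ⟨ι ⊕ ι, inferInstance, inferInstance, inferInstance, Wr P, ?_, invP_Wr h2 P hP, ?_,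
    hU ι P hu⟩
  · rw [Fintype.card_sum, hcard, pow_succ]
    ring
  · intro l hl
    rw [← bd_sc]
    exact bd_mem_Wr (hs l hl) (hs l hl)

theorem chain (h2 : (2 : F) ≠ 0) (L : Subgroup Fˣ)
    (U : ∀ (κ : Type) [Fintype κ] [DecidableEq κ], Matrix κ κ F → Prop)
    (hU : ∀ (κ : Type) [Fintype κ] [DecidableEq κ] (P : Subgroup (GL κ F)),
      (∀ a ∈ P, U κ (a : Matrix κ κ F)) → ∀ g ∈ Wr P, U (κ ⊕ κ) (g : Matrix (κ ⊕ κ) (κ ⊕ κ) F))
    (h1 : ChainAt L U 1) (j : ℕ) (hj : 1 ≤ j) : ChainAt L U j := by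
  induction j, hj using Nat.le_induction with
  | base => exact h1
  | succ j _ ih => exact chain_succ h2 L U hU j ih

/-- the one dimensional base gives level one -/
theorem chain_one_of_scalar (h2 : (2 : F) ≠ 0) (L : Subgroup Fˣ)
    (U : ∀ (κ : Type) [Fintype κ] [DecidableEq κ], Matrix κ κ F → Prop)
    (hU : ∀ (κ : Type) [Fintype κ] [DecidableEq κ] (P : Subgroup (GL κ F)),
      (∀ a ∈ P, U κ (a : Matrix κ κ F)) → ∀ g ∈ Wr P, U (κ ⊕ κ) (g : Matrix (κ ⊕ κ) (κ ⊕ κ) F))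
    (hL : ∀ l ∈ L, ∃ k : ℕ, l ^ (2 ^ k) = 1) (hi : ∃ i ∈ L, (i : F) * (i : F) = -1)
    (hUs : ∀ l ∈ L, U Unit ((sc l : GL Unit F) : Matrix Unit Unit F)) : ChainAt L U 1 := by
  refine ⟨Unit ⊕ Unit, inferInstance, inferInstance, inferInstance, Wr (Sc Unit L), ?_,
    invP_Wr_of_unique h2 _ (inv_Sc L hL hi), ?_, hU Unit _ ?_⟩
  · simp
  · intro l hl
    rw [← bd_sc]
    exact bd_mem_Wr (mem_Sc.2 ⟨l, hl, rfl⟩) (mem_Sc.2 ⟨l, hl, rfl⟩)
  · intro a ha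
    obtain ⟨l, hl, rfl⟩ := mem_Sc.1 ha
    exact hUs l hl

/-- the `2`-power order elements of `Fˣ` -/
def L2lin (F : Type*) [Field F] : Subgroup Fˣ where
  carrier := {l | ∃ k : ℕ, l ^ (2 ^ k) = 1}
  one_mem' := ⟨0, one_pow _⟩
  mul_mem' := by
    rintro a b ⟨k, hk⟩ ⟨m, hm⟩
    refine ⟨k + m, ?_⟩
    rw [mul_pow, pow_add, pow_mul, hk, one_pow, one_mul, mul_comm (2 ^ k), pow_mul, hm, one_pow]
  inv_mem' := by
    rintro a ⟨k, hk⟩
    exact ⟨k, by rw [inv_pow, hk, inv_one]⟩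

/-- the `2`-power order elements of norm one -/
def L2uni (F : Type*) [Field F] (q : ℕ) : Subgroup Fˣ where
  carrier := {l | l ^ (q + 1) = 1 ∧ ∃ k : ℕ, l ^ (2 ^ k) = 1}
  one_mem' := ⟨one_pow _, 0, one_pow _⟩
  mul_mem' := by
    rintro a b ⟨ha, k, hk⟩ ⟨hb, m, hm⟩
    refine ⟨by rw [mul_pow, ha, hb, one_mul], k + m, ?_⟩
    rw [mul_pow, pow_add, pow_mul, hk, one_pow, one_mul, mul_comm (2 ^ k), pow_mul, hm, one_pow]
  inv_mem' := by
    rintro a ⟨ha, k, hk⟩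
    exact ⟨by rw [inv_pow, ha, inv_one], k, by rw [inv_pow, hk, inv_one]⟩

/-- the trivial extra predicate -/
def UTrue (F : Type*) [Field F] :
    ∀ (κ : Type) [Fintype κ] [DecidableEq κ], Matrix κ κ F → Prop := fun _ _ _ _ => True

/-- the unitary extra predicate -/
def UUq (F : Type*) [Field F] (q : ℕ) :
    ∀ (κ : Type) [Fintype κ] [DecidableEq κ], Matrix κ κ F → Prop := fun _ _ _ a => Uq q a

/-- level one, linear case -/
theorem chain_one_lin [Fintype F] (h2 : (2 : F) ≠ 0)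
    (hSD : (¬ ∃ i : F, i * i = -1) → ∃ P : Subgroup (GL (Fin 2) F), InvP P ∧
      ∀ l : Fˣ, (∃ k : ℕ, l ^ (2 ^ k) = 1) → sc l ∈ P) :
    ChainAt (L2lin F) (UTrue F) 1 := by
  by_cases hi : ∃ i : F, i * i = -1
  · obtain ⟨i, hii⟩ := hi
    have hi0 : i ≠ 0 := by
      rintro rfl
      simp at hii
    refine chain_one_of_scalar h2 _ _ (fun _ _ _ _ _ _ _ => trivial) (fun l hl => hl)
      ⟨Units.mk0 i hi0, ⟨2, ?_⟩, by simpa using hii⟩ (fun _ _ => trivial)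
    apply Units.ext
    simp only [Units.val_pow_eq_pow_val, Units.val_mk0, Units.val_one]
    have : i ^ 2 = -1 := by rw [sq, hii]
    calc i ^ (2 ^ 2) = (i ^ 2) ^ 2 := by ring
      _ = 1 := by rw [this]; ring
  · obtain ⟨P, hP, hs⟩ := hSD hi
    exact ⟨Fin 2, inferInstance, inferInstance, inferInstance, P, by simp, hP,
      fun l hl => hs l hl, fun _ _ => trivial⟩

/-- level one, unitary case -/
theorem chain_one_uni [Fintype F] (q : ℕ) (hq : q ≠ 0) (h2 : (2 : F) ≠ 0)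
    (hSD : (¬ ∃ i : F, i * i = -1 ∧ i ^ (q + 1) = 1) → ∃ P : Subgroup (GL (Fin 2) F), InvP P ∧
      (∀ l : Fˣ, l ^ (q + 1) = 1 → (∃ k : ℕ, l ^ (2 ^ k) = 1) → sc l ∈ P) ∧
      ∀ a ∈ P, Uq q (a : Matrix (Fin 2) (Fin 2) F)) :
    ChainAt (L2uni F q) (UUq F q) 1 := by
  by_cases hi : ∃ i : F, i * i = -1 ∧ i ^ (q + 1) = 1
  · obtain ⟨i, hii, hiq⟩ := hi
    have hi0 : i ≠ 0 := by
      rintro rfl
      simp at hii
    refine chain_one_of_scalar h2 _ _ (fun κ _ _ P h => uq_Wr q hq P h) (fun l hl => hl.2)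
      ⟨Units.mk0 i hi0, ⟨?_, 2, ?_⟩, by simpa using hii⟩ (fun l hl => uq_sc q hq l hl.1)
    · apply Units.ext
      simpa using hiq
    · apply Units.ext
      simp only [Units.val_pow_eq_pow_val, Units.val_mk0, Units.val_one]
      have : i ^ 2 = -1 := by rw [sq, hii]
      calc i ^ (2 ^ 2) = (i ^ 2) ^ 2 := by ring
        _ = 1 := by rw [this]; ring
  · obtain ⟨P, hP, hs, hu⟩ := hSD hi
    exact ⟨Fin 2, inferInstance, inferInstance, inferInstance, P, by simp, hP,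
      fun l hl => hs l hl.1 hl.2, hu⟩

/-- **odd `q`, linear case** -/
theorem psl_odd_pronormal [Fintype F] (h2 : (2 : F) ≠ 0)
    (hSD : (¬ ∃ i : F, i * i = -1) → ∃ P : Subgroup (GL (Fin 2) F), InvP P ∧
      ∀ l : Fˣ, (∃ k : ℕ, l ^ (2 ^ k) = 1) → sc l ∈ P)
    (w : ℕ) (hw : 2 ≤ w) (H : Subgroup (Matrix.ProjectiveSpecialLinearGroup (Fin (2 ^ w)) F))
    (hH : Odd H.index) : Cfsg.IsPronormal H := by
  obtain ⟨ι, i1, i2, i3, P, hcard, hP, hs, -⟩ :=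
    chain h2 (L2lin F) (UTrue F) (fun _ _ _ _ _ _ _ => trivial) (chain_one_lin h2 hSD) (w - 1)
      (by omega)
  have hcard2 : Fintype.card (ι ⊕ ι) = 2 ^ w := by
    rw [Fintype.card_sum, hcard, ← two_mul, ← pow_succ']
    congr 1
    omega
  obtain ⟨φ, hφs, hφd, -⟩ := exists_reindex (F := F) (2 ^ w) hcard2
  have hN := transport_pack (2 ^ w) φ hφs hφd (Wr P) (sl_step h2 P hP)
  have hW2 : ∀ g ∈ (Wr P).map φ.toMonoidHom, ∃ k : ℕ, g ^ (2 ^ k) = 1 := by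
    rintro _ ⟨g, hg, rfl⟩
    obtain ⟨k, hk⟩ := two_Wr P hP.two g hg
    exact ⟨k, by rw [MulEquiv.coe_toMonoidHom, ← map_pow, hk, map_one]⟩
  have hsc : ∀ l : Fˣ, (∃ k : ℕ, l ^ (2 ^ k) = 1) →
      (sc l : GL (Fin (2 ^ w)) F) ∈ (Wr P).map φ.toMonoidHom := by
    intro l hl
    refine ⟨sc l, ?_, hφs l⟩
    rw [← bd_sc]
    exact bd_mem_Wr (hs l hl) (hs l hl)
  obtain ⟨S₁, Z₀, hS2, hZ, hodd, hNS⟩ := sl_pack (2 ^ w) _ hW2 hN hsc
  exact F1C (F1B S₁ Z₀ hS2 hZ hodd hNS) H hH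

/-- **odd `q`, unitary case** -/
theorem psu_odd_pronormal [Fintype F] (q : ℕ) (hF : Fintype.card F = q ^ 2) (h2 : (2 : F) ≠ 0)
    (hSD : (¬ ∃ i : F, i * i = -1 ∧ i ^ (q + 1) = 1) → ∃ P : Subgroup (GL (Fin 2) F), InvP P ∧
      (∀ l : Fˣ, l ^ (q + 1) = 1 → (∃ k : ℕ, l ^ (2 ^ k) = 1) → sc l ∈ P) ∧
      ∀ a ∈ P, Uq q (a : Matrix (Fin 2) (Fin 2) F))
    (w : ℕ) (hw : 2 ≤ w) (H : Subgroup (Cfsg.PSU (2 ^ w) F q))
    (hH : Odd H.index) : Cfsg.IsPronormal H := by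
  have hq : q ≠ 0 := by
    rintro rfl
    have : 0 < Fintype.card F := Fintype.card_pos
    omega
  obtain ⟨ι, i1, i2, i3, P, hcard, hP, hs, hu⟩ :=
    chain h2 (L2uni F q) (UUq F q) (fun κ _ _ P h => uq_Wr q hq P h)
      (chain_one_uni q hq h2 hSD) (w - 1) (by omega)
  have hcard2 : Fintype.card (ι ⊕ ι) = 2 ^ w := by
    rw [Fintype.card_sum, hcard, ← two_mul, ← pow_succ']
    congr 1
    omega
  obtain ⟨φ, hφs, hφd, hφu⟩ := exists_reindex (F := F) (2 ^ w) hcard2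
  have hN := transport_pack (2 ^ w) φ hφs hφd (Wr P) (sl_step h2 P hP)
  have hW2 : ∀ g ∈ (Wr P).map φ.toMonoidHom, ∃ k : ℕ, g ^ (2 ^ k) = 1 := by
    rintro _ ⟨g, hg, rfl⟩
    obtain ⟨k, hk⟩ := two_Wr P hP.two g hg
    exact ⟨k, by rw [MulEquiv.coe_toMonoidHom, ← map_pow, hk, map_one]⟩
  have hsc : ∀ l : Fˣ, l ^ (q + 1) = 1 → (∃ k : ℕ, l ^ (2 ^ k) = 1) →
      (sc l : GL (Fin (2 ^ w)) F) ∈ (Wr P).map φ.toMonoidHom := by
    intro l hl1 hl2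
    refine ⟨sc l, ?_, hφs l⟩
    rw [← bd_sc]
    exact bd_mem_Wr (hs l ⟨hl1, hl2⟩) (hs l ⟨hl1, hl2⟩)
  have hU : ∀ g ∈ (Wr P).map φ.toMonoidHom, Uq q (g : Matrix (Fin (2 ^ w)) (Fin (2 ^ w)) F) := by
    rintro _ ⟨g, hg, rfl⟩
    exact (hφu q g).2 (uq_Wr q hq P hu g hg)
  obtain ⟨S₁, Z₀, hS2, hZ, hodd, hNS⟩ := su_pack q (2 ^ w) hF _ hW2 hN hsc hU
  exact F1C (F1B S₁ Z₀ hS2 hZ hodd hNS) H hH

end Cfsg.Agent.Helper99.Pron
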